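import Groth.Agent.LBDesc.Ring
import Mathlib.LinearAlgebra.Matrix.Determinant.Basic
import Mathlib.LinearAlgebra.TensorProduct.Pi

/-!
# A one-cocycle of invertible matrices is Zariski-locally a coboundary
-/

set_option autoImplicit false
universe u

open TensorProduct

noncomputable section

namespace Groth.Agent.GLTorsorZar

variable {A B : Type u} [CommRing A] [CommRing B] [Algebra A B] {n : ℕ}

local notation "ιl" => (Algebra.TensorProduct.includeLeft : B →ₐ[A] B ⊗[A] B)
local notation "ιr" => (Algebra.TensorProduct.includeRight : B →ₐ[A] B ⊗[A] B)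

/-- the twisted difference on vectors -/
def vdiff (U : Matrix (Fin n) (Fin n) (B ⊗[A] B)) : (Fin n → B) →ₗ[A] (Fin n → B ⊗[A] B) :=
  LinearMap.pi fun k =>
    (∑ i, (LinearMap.mulLeft A (U k i) ∘ₗ (ιl).toLinearMap) ∘ₗ LinearMap.proj i) -
      (ιr).toLinearMap ∘ₗ LinearMap.proj k

theorem vdiff_eq_zero_iff (U : Matrix (Fin n) (Fin n) (B ⊗[A] B)) (b : Fin n → B) :
    vdiff U b = 0 ↔ ∀ k, ∑ i, U k i * (b i ⊗ₜ 1) = 1 ⊗ₜ b k := by
  simp [vdiff, funext_iff, sub_eq_zero]

theorem det_mem_of_rows_mem_span (s : Set (Fin n → B)) (J : Ideal B)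
    (hJ : ∀ v : Fin n → Fin n → B, (∀ i, v i ∈ s) → Matrix.det (Matrix.of v) ∈ J)
    (v : Fin n → Fin n → B) (hv : ∀ i, v i ∈ Submodule.span B s) : Matrix.det (Matrix.of v) ∈ J := by
  classical
  suffices h : ∀ (T : Finset (Fin n)) (v : Fin n → Fin n → B), (∀ i, v i ∈ Submodule.span B s) →
      (∀ i, i ∉ T → v i ∈ s) → Matrix.det (Matrix.of v) ∈ J from
    h Finset.univ v hv fun i hi => absurd (Finset.mem_univ i) hi
  intro T
  induction T using Finset.induction_on with
  | empty => exact fun v _ h => hJ v fun i => h i (Finset.notMem_empty i)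
  | insert a T ha ih =>
    intro v hv h
    let L : (Fin n → B) →ₗ[B] B := (Matrix.detRowAlternating (n := Fin n) (R := B)).toMultilinearMap.toLinearMap v a
    have hle : Submodule.span B s ≤ Submodule.comap L J := Submodule.span_le.2 fun x hx => by
      refine ih (Function.update v a x) (fun i => ?_) fun i hi => ?_
      · rcases eq_or_ne i a with rfl | hia
        · rw [Function.update_self]; exact Submodule.subset_span hx
        · rw [Function.update_of_ne hia]; exact hv i
      · rcases eq_or_ne i a with rfl | hia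
        · rw [Function.update_self]; exact hx
        · rw [Function.update_of_ne hia]
          exact h i (by simp [hi, hia])
    have := hle (hv a)
    simp only [Submodule.mem_comap, L, MultilinearMap.toLinearMap_apply, Function.update_eq_self] at this
    exact this

variable [Module.FaithfullyFlat A B]
  (W : ∀ (R : Type u) [CommRing R] [Algebra A R] [Module.Flat A R],
    (B →ₐ[A] R) → (B →ₐ[A] R) → Matrix (Fin n) (Fin n) R)
  (hnat : ∀ (R R' : Type u) [CommRing R] [Algebra A R] [Module.Flat A R] [CommRing R'] [Algebra A R']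
    [Module.Flat A R'] (f : R →ₐ[A] R') (φ ψ : B →ₐ[A] R), (W R φ ψ).map f = W R' (f.comp φ) (f.comp ψ))
  (hone : ∀ (R : Type u) [CommRing R] [Algebra A R] [Module.Flat A R] (φ : B →ₐ[A] R), W R φ φ = 1)
  (hcoc : ∀ (R : Type u) [CommRing R] [Algebra A R] [Module.Flat A R] (φ ψ χ : B →ₐ[A] R),
    W R ψ χ * W R φ ψ = W R φ χ)

include hnat hone hcoc in
/-- the determinants of equivariant matrices generate the unit ideal -/
theorem span_det_eq_top :
    Ideal.span {d : B | ∃ m : Matrix (Fin n) (Fin n) B,
      W (B ⊗[A] B) ιl ιr * m.map ιl = m.map ιr ∧ m.det = d} = ⊤ := by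
  classical
  let U := W (B ⊗[A] B) ιl ιr
  let V := W (B ⊗[A] B) ιr ιl
  let R3 := (B ⊗[A] B) ⊗[A] B
  let inc : B ⊗[A] B →ₐ[A] (B ⊗[A] B) ⊗[A] B := Algebra.TensorProduct.includeLeft
  let e3 : B →ₐ[A] (B ⊗[A] B) ⊗[A] B := Algebra.TensorProduct.includeRight
  have h13 : ∀ φ : B →ₐ[A] B ⊗[A] B, (Algebra.TensorProduct.map φ (AlgHom.id A B)).comp ιl = inc.comp φ := fun φ => by
    ext b; simp [inc]
  have h33 : ∀ φ : B →ₐ[A] B ⊗[A] B, (Algebra.TensorProduct.map φ (AlgHom.id A B)).comp ιr = e3 := fun φ => by
    ext b; simp [e3]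
  let s : Set (Fin n → B) := {b | vdiff U b = 0}
  let L : (Fin n → B) ⊗[A] B →ₗ[A] (Fin n → (B ⊗[A] B) ⊗[A] B) :=
    (TensorProduct.piLeft A B fun _ : Fin n => B ⊗[A] B).toLinearMap ∘ₗ (vdiff U).rTensor B
  have hL : ∀ (i k : Fin n) (t : B ⊗[A] B), L ((LinearMap.single A (fun _ : Fin n => B) i).rTensor B t) k =
      inc (U k i) * Algebra.TensorProduct.map ιl (AlgHom.id A B) t -
        (if k = i then Algebra.TensorProduct.map ιr (AlgHom.id A B) t else 0) := by
    intro i k t
    induction t using TensorProduct.induction_on with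
    | zero => simp
    | add a b ha hb =>
      simp only [map_add, Pi.add_apply, ha, hb]
      split_ifs <;> ring
    | tmul b c =>
      by_cases hki : k = i
      · subst hki
        simp [L, vdiff, inc, Pi.single_apply, TensorProduct.sub_tmul, apply_ite]
      · simp [L, vdiff, inc, Pi.single_apply, TensorProduct.sub_tmul, apply_ite, hki]
  have key : ∀ j, Pi.single (M := fun _ : Fin n => B) j 1 ∈ Submodule.span B s := by
    intro j
    let z : (Fin n → B) ⊗[A] B := ∑ i, (LinearMap.single A (fun _ : Fin n => B) i).rTensor B (V i j)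
    have hz : (vdiff U).rTensor B z = 0 := by
      apply (TensorProduct.piLeft A B fun _ : Fin n => B ⊗[A] B).injective
      rw [map_zero]
      show L z = 0
      ext k
      simp only [z, map_sum, Finset.sum_apply, hL, Finset.sum_sub_distrib, Finset.sum_ite_eq, Finset.mem_univ,
        if_true, Pi.zero_apply, sub_eq_zero]
      have hmap : ∀ (φ : B →ₐ[A] B ⊗[A] B) (i : Fin n), Algebra.TensorProduct.map φ (AlgHom.id A B) (V i j) =
          W R3 e3 (inc.comp φ) i j := fun φ i => by
        rw [← h13, ← h33 φ, ← hnat]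
        rfl
      have hinc : ∀ i, inc (U k i) = W R3 (inc.comp ιl) (inc.comp ιr) k i := fun i => by
        rw [← hnat]; rfl
      simp only [hmap, hinc]
      rw [← Matrix.mul_apply, hcoc]
    obtain ⟨w, hw⟩ := (Module.Flat.rTensor_exact (M := B) (LinearMap.exact_subtype_ker_map (vdiff U)) z).1 hz
    have hmem : ∀ t : (LinearMap.ker (vdiff U)) ⊗[A] B,
        (fun l => Algebra.TensorProduct.lmul' A (S := B)
          ((TensorProduct.piLeft A B fun _ : Fin n => B) ((LinearMap.ker (vdiff U)).subtype.rTensor B t) l)) ∈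
          Submodule.span B s := by
      intro t
      induction t using TensorProduct.induction_on with
      | zero =>
        simp only [map_zero, Pi.zero_apply]
        exact Submodule.zero_mem _
      | add a b ha hb =>
        simp only [map_add, Pi.add_apply]
        exact Submodule.add_mem _ ha hb
      | tmul b c =>
        have e : (fun l => Algebra.TensorProduct.lmul' A (S := B)
            ((TensorProduct.piLeft A B fun _ : Fin n => B) ((LinearMap.ker (vdiff U)).subtype.rTensor B (b ⊗ₜ c)) l)) =
            c • (b : Fin n → B) := by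
          ext l; simp [mul_comm]
        rw [e]
        exact Submodule.smul_mem _ c (Submodule.subset_span (LinearMap.mem_ker.1 b.2))
    have := hmem w
    rw [hw] at this
    convert this using 1
    ext l
    have hV : ∀ i, Algebra.TensorProduct.lmul' A (S := B) (V i j) = (1 : Matrix (Fin n) (Fin n) B) i j := fun i => by
      rw [show Algebra.TensorProduct.lmul' A (S := B) (V i j) = ((V).map (Algebra.TensorProduct.lmul' A (S := B))) i j
        from rfl, hnat, Algebra.TensorProduct.lmul'_comp_includeRight, Algebra.TensorProduct.lmul'_comp_includeLeft,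
        hone]
    have hone' : ∀ (i : Fin n) (t : B ⊗[A] B), (TensorProduct.piLeft A B fun _ : Fin n => B)
        ((LinearMap.single A (fun _ : Fin n => B) i).rTensor B t) l = if l = i then t else 0 := fun i t => by
      induction t using TensorProduct.induction_on with
      | zero => simp
      | add a b ha hb => simp only [map_add, Pi.add_apply, ha, hb]; split_ifs <;> simp
      | tmul b c => by_cases hli : l = i <;> simp [Pi.single_apply, hli]
    simp only [z, map_sum, Finset.sum_apply, hone', apply_ite, map_zero, Finset.sum_ite_eq, Finset.mem_univ, if_true,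
      hV, Matrix.one_apply, Pi.single_apply]
    split_ifs <;> simp_all
  rw [Ideal.eq_top_iff_one, ← Matrix.det_one (n := Fin n)]
  refine det_mem_of_rows_mem_span s (Ideal.span {d : B | ∃ m : Matrix (Fin n) (Fin n) B,
    U * m.map ιl = m.map ιr ∧ m.det = d}) (fun v hv => Ideal.subset_span ⟨(Matrix.of v).transpose, ?_,
    Matrix.det_transpose _⟩) (fun i l => (1 : Matrix (Fin n) (Fin n) B) i l) fun j => ?_
  · ext k j
    rw [Matrix.mul_apply]
    exact (vdiff_eq_zero_iff U (v j)).1 (hv j) k
  · convert key j using 1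
    ext l
    simp [Matrix.one_apply, Pi.single_apply, eq_comm]

include hnat hone hcoc in
/-- **a matrix cocycle is locally a coboundary** -/
theorem exists_coboundary (p : PrimeSpectrum A) :
    ∃ f : A, f ∉ p.asIdeal ∧ ∃ (m : Matrix (Fin n) (Fin n) B) (d : B), m.det * d = algebraMap A B f ∧
      W (B ⊗[A] B) ιl ιr * m.map ιl = m.map ιr := by
  have hM := span_det_eq_top W hnat hone hcoc
  have hN := span_det_eq_top (fun R _ _ _ φ ψ => (W R ψ φ).transpose)
    (fun R R' _ _ _ _ _ _ f φ ψ => by rw [Matrix.transpose_map, hnat])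
    (fun R _ _ _ φ => by rw [hone, Matrix.transpose_one])
    (fun R _ _ _ φ ψ χ => by rw [← Matrix.transpose_mul, hcoc])
  let U := W (B ⊗[A] B) ιl ιr
  let V := W (B ⊗[A] B) ιr ιl
  have hUV : U.det * V.det = 1 := by
    rw [← Matrix.det_mul, hcoc, hone, Matrix.det_one]
  have hmn : ∀ m n' : Matrix (Fin n) (Fin n) B, U * m.map ιl = m.map ιr → V.transpose * n'.map ιl = n'.map ιr →
      ∃ f : A, algebraMap A B f = m.det * n'.det := by
    intro m n' hm hn
    have e1 := congrArg Matrix.det hm
    have e2 := congrArg Matrix.det hn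
    rw [Matrix.det_mul] at e1 e2
    rw [Matrix.det_transpose] at e2
    have e : (ιl (m.det * n'.det)) = ιr (m.det * n'.det) := by
      rw [map_mul, map_mul, AlgHom.map_det, AlgHom.map_det, AlgHom.map_det, AlgHom.map_det]
      calc _ = (U.det * V.det) * ((AlgHom.mapMatrix ιl m).det * (AlgHom.mapMatrix ιl n').det) := by
            rw [hUV, one_mul]
        _ = _ := by
          rw [mul_mul_mul_comm]
          exact congrArg₂ (· * ·) e1 e2
    exact (Algebra.IsEffective.eqLocus_includeLeft_includeRight (.of_faithfullyFlat A B)).le e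
  by_contra hne
  refine p.isPrime.ne_top (Ideal.map_injective_of_faithfullyFlat (B := B) ?_)
  rw [Ideal.map_top]
  refine top_unique ?_
  rw [← Ideal.top_mul (⊤ : Ideal B)]
  nth_rewrite 1 [← hM]
  nth_rewrite 1 [← hN]
  rw [Ideal.span_mul_span', Ideal.span_le]
  rintro _ ⟨_, ⟨m, hm, rfl⟩, _, ⟨n', hn, rfl⟩, rfl⟩
  obtain ⟨f, hf⟩ := hmn m n' hm hn
  by_contra hmem
  refine hne ⟨f, fun hfp => hmem ?_, m, n'.det, hf.symm, hm⟩
  show m.det * n'.det ∈ _
  rw [← hf]
  exact Ideal.mem_map_of_mem _ hfp

end Groth.Agent.GLTorsorZar
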