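import Groth.Agent.LineGrp.Ga
import Groth.Prelude.Def_FrameBundle
import Mathlib.AlgebraicGeometry.Group.Affine

/-!
# Points of the general linear group as invertible matrices
-/

set_option autoImplicit false

set_option linter.style.haveILetI false
set_option synthInstance.maxHeartbeats 400000

universe u

open CategoryTheory Limits MonoidalCategory CartesianMonoidalCategory MonObj AlgebraicGeometry WithConv
open CoordGrp (GLn)
open scoped TensorProduct

noncomputable section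

namespace Groth.Agent.GLTorsorZar

attribute [-instance] ULift.smulLeft ULift.module instCommGrpObjSpecAsOverSpec isCommMonObj_spec_asOver_spec

/-- the integers -/
abbrev Z : Type u := ULift.{u} ℤ

variable {S : Scheme.{u}} {W W' : Over S} {n : ℕ}

/-- functions of a morphism to the affine scheme of the universal group -/
def fnG {T : Scheme.{u}} (f : T ⟶ Spec (CommRingCat.of (GLn n Z.{u}))) : GLn n Z.{u} →+* Γ(T, ⊤) :=
  ((Scheme.ΓSpecIso (CommRingCat.of (GLn n Z.{u}))).inv ≫ f.appTop).hom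

theorem fnG_comp {T T' : Scheme.{u}} (g : T' ⟶ T) (f : T ⟶ Spec (CommRingCat.of (GLn n Z.{u}))) (r : GLn n Z.{u}) :
    fnG (g ≫ f) r = g.appTop (fnG f r) := rfl

theorem fnG_toSpecΓ {T : Scheme.{u}} (φ : GLn n Z.{u} →+* Γ(T, ⊤)) :
    fnG (T.toSpecΓ ≫ Spec.map (CommRingCat.ofHom φ)) = φ := by
  rw [fnG, Scheme.Hom.comp_appTop, ← Scheme.ΓSpecIso_inv_naturality_assoc, Scheme.toSpecΓ_appTop,
    Iso.inv_hom_id, Category.comp_id]
  rfl

theorem fnG_ext {T : Scheme.{u}} {x y : T ⟶ Spec (CommRingCat.of (GLn n Z.{u}))}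
    (h : ∀ i j, fnG x (GLn.X i j) = fnG y (GLn.X i j)) : x = y := by
  apply ext_of_isAffine
  rw [← cancel_epi (Scheme.ΓSpecIso _).inv]
  apply CommRingCat.hom_ext
  letI : Algebra Z.{u} Γ(T, ⊤) := ((Int.castRingHom _).comp ULift.ringEquiv.toRingHom).toAlgebra
  have hz : ∀ (φ ψ : Z.{u} →+* Γ(T, ⊤)), φ = ψ := fun φ ψ => by
    have h := RingHom.ext_int (φ.comp ULift.ringEquiv.symm.toRingHom) (ψ.comp ULift.ringEquiv.symm.toRingHom)
    ext z
    exact congrArg (fun k : ℤ →+* Γ(T, ⊤) => k z.down) h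
  let F : (T ⟶ Spec (CommRingCat.of (GLn n Z.{u}))) → (GLn n Z.{u} →ₐ[Z.{u}] Γ(T, ⊤)) := fun v =>
    { fnG v with
      commutes' := fun c => RingHom.congr_fun (hz ((fnG v).comp (algebraMap Z.{u} _)) (algebraMap Z.{u} _)) c }
  have hX : ∀ i j, F x (GLn.X i j) = F y (GLn.X i j) := h
  have hD : F x GLn.Dinv = F y GLn.Dinv := by
    have hdet : F x GLn.det = F y GLn.det := by
      rw [GLn.det_eq, AlgHom.map_det, AlgHom.map_det]
      exact congrArg Matrix.det (by ext i j; exact hX i j)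
    refine left_inv_eq_right_inv (a := F x GLn.det) ?_ ?_
    · rw [← map_mul, GLn.Dinv_mul_det, _root_.map_one]
    · rw [hdet, ← map_mul, GLn.det_mul_Dinv, _root_.map_one]
  exact congrArg AlgHom.toRingHom (GLn.algHom_ext hX hD)

/-- The matrix of a point. -/
def mat (x : W ⟶ FrB.GLn n S) : Matrix (Fin n) (Fin n) Γ(W.left, ⊤) :=
  Matrix.of fun i j => fnG (x.left ≫ pullback.fst _ _) (GLn.X i j)

theorem mat_comp (f : W' ⟶ W) (x : W ⟶ FrB.GLn n S) : mat (f ≫ x) = (mat x).map f.left.appTop := by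
  ext i j
  simp only [mat, Over.comp_left, Category.assoc, Matrix.map_apply, Matrix.of_apply]
  rfl

theorem mat_ext {x y : W ⟶ FrB.GLn n S} (h : mat x = mat y) : x = y := by
  apply Over.OverMorphism.ext
  refine pullback.hom_ext (fnG_ext fun i j => congrFun (congrFun h i) j) ?_
  exact (Over.w x).trans (Over.w y).symm

theorem isUnit_det_mat (x : W ⟶ FrB.GLn n S) : IsUnit (mat x).det := by
  refine IsUnit.of_mul_eq_one (fnG (x.left ≫ pullback.fst _ _) GLn.Dinv) ?_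
  rw [show (mat x).det = fnG (x.left ≫ pullback.fst _ _) GLn.det by
    rw [GLn.det_eq, RingHom.map_det]; rfl, ← map_mul, GLn.det_mul_Dinv, map_one]

theorem exists_mat (M : Matrix (Fin n) (Fin n) Γ(W.left, ⊤)) (hM : IsUnit M.det) :
    ∃ x : W ⟶ FrB.GLn n S, mat x = M := by
  letI : Algebra Z.{u} Γ(W.left, ⊤) := ((Int.castRingHom _).comp ULift.ringEquiv.toRingHom).toAlgebra
  let φ : GLn n Z.{u} →ₐ[Z.{u}] Γ(W.left, ⊤) := GLn.pt n Z.{u} M ↑(hM.unit⁻¹) hM.mul_val_inv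
  refine ⟨Over.homMk (pullback.lift (W.left.toSpecΓ ≫ Spec.map (CommRingCat.ofHom φ.toRingHom)) W.hom
    (specULiftZIsTerminal.hom_ext _ _)) (pullback.lift_snd _ _ _), ?_⟩
  ext i j
  refine Eq.trans (congrArg (fun g : W.left ⟶ Spec (CommRingCat.of (GLn n Z.{u})) => fnG g (GLn.X i j))
    (pullback.lift_fst _ _ _)) ?_
  exact (RingHom.congr_fun (fnG_toSpecΓ φ.toRingHom) (GLn.X i j)).trans (GLn.pt_X _ _ _ i j)

/-- The map to the integers. -/
abbrev toZ (S : Scheme.{u}) : S ⟶ Spec (CommRingCat.of Z.{u}) := IsTerminal.from specULiftZIsTerminal S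

theorem adj_symm_left (x : W ⟶ FrB.GLn n S) :
    (((Over.mapPullbackAdj (toZ S)).homEquiv _ _).symm x).left = x.left ≫ pullback.fst _ _ := by
  rw [Adjunction.homEquiv_counit]
  simp [Over.mapPullbackAdj]

theorem adj_symm_mul (x y : W ⟶ FrB.GLn n S) :
    ((Over.mapPullbackAdj (toZ S)).homEquiv _ _).symm (x * y) =
      ((Over.mapPullbackAdj (toZ S)).homEquiv _ _).symm x *
        ((Over.mapPullbackAdj (toZ S)).homEquiv _ _).symm y := by
  apply ((Over.mapPullbackAdj (toZ S)).homEquiv _ _).injective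
  rw [Equiv.apply_symm_apply, Adjunction.homEquiv_unit, Functor.map_mul, MonObj.comp_mul,
    ← Adjunction.homEquiv_unit, ← Adjunction.homEquiv_unit, Equiv.apply_symm_apply, Equiv.apply_symm_apply]

/-- The matrix of a point over the integers. -/
def zMat {T : Over (Spec (CommRingCat.of Z.{u}))} (x : T ⟶ FrB.GLZ.{u} n) : Matrix (Fin n) (Fin n) Γ(T.left, ⊤) :=
  Matrix.of fun i j => fnG x.left (GLn.X i j)

theorem mat_eq_zMat (x : W ⟶ FrB.GLn n S) :
    mat x = zMat (((Over.mapPullbackAdj (toZ S)).homEquiv _ _).symm x) := by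
  rw [zMat, adj_symm_left]
  rfl

theorem zMat_mapMulEquiv {A : Type u} [CommRing A] [Algebra Z.{u} A] (f : WithConv (GLn n Z.{u} →ₐ[Z.{u}] A)) :
    zMat (Spec.mapMulEquiv (R := Z.{u}) f) =
      Matrix.of fun i j => (Scheme.ΓSpecIso (CommRingCat.of A)).inv (f.ofConv (GLn.X i j)) := by
  ext i j
  simp only [zMat, Matrix.of_apply]
  change fnG (Spec.map (CommRingCat.ofHom f.ofConv.toRingHom)) _ = _
  rw [fnG, ← Scheme.ΓSpecIso_inv_naturality]
  rfl

theorem zMat_mul_spec {A : Type u} [CommRing A] [Algebra Z.{u} A]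
    (x y : (Spec (CommRingCat.of A)).asOver (Spec (CommRingCat.of Z.{u})) ⟶ FrB.GLZ.{u} n) :
    zMat (x * y) = zMat x * zMat y := by
  obtain ⟨f, rfl⟩ := (Spec.mapMulEquiv (R := Z.{u}) (S := GLn n Z.{u}) (T := A)).surjective x
  obtain ⟨g, rfl⟩ := (Spec.mapMulEquiv (R := Z.{u}) (S := GLn n Z.{u}) (T := A)).surjective y
  rw [← map_mul, zMat_mapMulEquiv, zMat_mapMulEquiv, zMat_mapMulEquiv]
  ext i j
  refine Eq.trans ?_ (Matrix.mul_apply).symm
  simp only [Matrix.of_apply]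
  rw [AlgHom.convMul_apply, GLn.comul_X]
  simp
  rfl

theorem zMat_comp {T T' : Over (Spec (CommRingCat.of Z.{u}))} (f : T' ⟶ T) (x : T ⟶ FrB.GLZ.{u} n) :
    zMat (f ≫ x) = (zMat x).map f.left.appTop := rfl

theorem zMat_mul {T : Over (Spec (CommRingCat.of Z.{u}))} (x y : T ⟶ FrB.GLZ.{u} n) :
    zMat (x * y) = zMat x * zMat y := by
  letI : Algebra Z.{u} Γ(T.left, ⊤) := ((Int.castRingHom _).comp ULift.ringEquiv.toRingHom).toAlgebra
  let T' := (Spec (CommRingCat.of Γ(T.left, ⊤))).asOver (Spec (CommRingCat.of Z.{u}))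
  let m : T ⟶ T' := Over.homMk T.left.toSpecΓ (specULiftZIsTerminal.hom_ext _ _)
  have h : ∀ z : T ⟶ FrB.GLZ.{u} n, ∃ z' : T' ⟶ FrB.GLZ.{u} n, m ≫ z' = z := fun z =>
    ⟨Over.homMk (Spec.map (CommRingCat.ofHom (fnG z.left))) (specULiftZIsTerminal.hom_ext _ _), by
      apply Over.OverMorphism.ext
      exact fnG_ext fun i j => RingHom.congr_fun (fnG_toSpecΓ (fnG z.left)) _⟩
  obtain ⟨x', rfl⟩ := h x
  obtain ⟨y', rfl⟩ := h y
  rw [← MonObj.comp_mul, zMat_comp, zMat_comp, zMat_comp, zMat_mul_spec, Matrix.map_mul]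

theorem mat_mul (x y : W ⟶ FrB.GLn n S) : mat (x * y) = mat x * mat y := by
  rw [mat_eq_zMat, mat_eq_zMat, mat_eq_zMat, adj_symm_mul, zMat_mul]

theorem mat_one : mat (1 : W ⟶ FrB.GLn n S) = 1 := by
  have h := mat_mul (1 : W ⟶ FrB.GLn n S) 1
  have h1 : (1 : W ⟶ FrB.GLn n S) * 1 = 1 := MulOneClass.one_mul (1 : W ⟶ FrB.GLn n S)
  rw [h1] at h
  exact (((Matrix.isUnit_iff_isUnit_det _).2 (isUnit_det_mat 1)).mul_eq_left).1 h.symm

end Groth.Agent.GLTorsorZar
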