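import Groth.Agent.GLTorsorZar.Pts
import Mathlib.RingTheory.Localization.Away.Basic
import Mathlib.RingTheory.Flat.Stability

/-!
# The general linear group is affine and flat over the base
-/

set_option autoImplicit false
set_option linter.style.haveILetI false

universe u

open CategoryTheory Limits AlgebraicGeometry
open CoordGrp (GLn)

noncomputable section

namespace Groth.Agent.GLTorsorZar

attribute [-instance] instCommGrpObjSpecAsOverSpec isCommMonObj_spec_asOver_spec

theorem flat_coord (n : ℕ) (k : Type u) [CommRing k] : Module.Flat k (GLn n k) := by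
  let P := MvPolynomial (Fin n × Fin n) k
  let δ : P := (Matrix.mvPolynomialX (Fin n) (Fin n) k).det
  let L := Localization.Away δ
  let ev : P →ₐ[k] GLn n k := MvPolynomial.aeval fun p => GLn.X p.1 p.2
  have hev : ev δ = GLn.det := by
    rw [GLn.det_eq, AlgHom.map_det]
    congr 1
    ext i j
    exact MvPolynomial.aeval_X _ (i, j)
  have hu : IsUnit (ev δ) := by rw [hev]; exact IsUnit.of_mul_eq_one _ GLn.det_mul_Dinv
  let ψ : L →ₐ[k] GLn n k :=
    { IsLocalization.Away.lift δ (g := ev.toRingHom) hu with
      commutes' := fun c => by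
        show IsLocalization.Away.lift δ (g := ev.toRingHom) hu (algebraMap k L c) = _
        rw [IsScalarTower.algebraMap_apply k P L]
        exact (IsLocalization.Away.lift_eq δ hu _).trans (ev.commutes c) }
  let M : Matrix (Fin n) (Fin n) L := (Matrix.mvPolynomialX (Fin n) (Fin n) k).map (algebraMap P L)
  have hM : IsUnit M.det := by
    have : M.det = algebraMap P L δ := (RingHom.map_det _ _).symm
    rw [this]
    exact IsLocalization.Away.algebraMap_isUnit δ
  let φ : GLn n k →ₐ[k] L := GLn.pt n k M ↑(hM.unit⁻¹) hM.mul_val_inv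
  have hX : ∀ i j, ψ (φ (GLn.X i j)) = GLn.X i j := fun i j => by
    rw [show φ (GLn.X i j) = M i j from GLn.pt_X _ _ _ i j]
    show IsLocalization.Away.lift δ (g := ev.toRingHom) hu (algebraMap P L _) = _
    rw [IsLocalization.Away.lift_eq]
    exact MvPolynomial.aeval_X _ (i, j)
  have hD : ψ (φ GLn.Dinv) = GLn.Dinv := by
    have hd : ψ (φ GLn.det) = GLn.det := by
      have := AlgHom.map_det (ψ.comp φ) (Matrix.of fun i j => (GLn.X i j : GLn n k))
      refine (congrArg (ψ.comp φ) GLn.det_eq).trans ?_
      rw [GLn.det_eq, AlgHom.map_det]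
      congr 1
      ext i j
      exact hX i j
    refine left_inv_eq_right_inv (a := ψ (φ GLn.det)) ?_ ?_
    · rw [← map_mul, ← map_mul, GLn.Dinv_mul_det, map_one, map_one]
    · rw [hd, GLn.det_mul_Dinv]
  haveI : Module.Flat k L := Module.Flat.trans k P L
  exact Module.Flat.of_retract φ.toLinearMap ψ.toLinearMap
    (congrArg AlgHom.toLinearMap (GLn.algHom_ext (f := ψ.comp φ) (g := AlgHom.id k _) hX hD))

instance flat_GLn (n : ℕ) (S : Scheme.{u}) : Flat (FrB.GLn n S).hom := by
  haveI : Flat (FrB.GLZ.{u} n).hom := by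
    show Flat (Spec.map (CommRingCat.ofHom (algebraMap (ULift.{u} ℤ) (GLn n (ULift.{u} ℤ)))))
    exact Flat.SpecMap_iff.2 (RingHom.flat_algebraMap_iff.2 (flat_coord n _))
  show Flat (pullback.snd _ _)
  exact MorphismProperty.pullback_snd _ _ inferInstance

end Groth.Agent.GLTorsorZar
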