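import Groth.Agent.GLTorsorZar.Alg
import Groth.Agent.GLTorsorZar.Flat
import Groth.Agent.GmTorsorZar.Main

/-!
Torsors under the general linear group are locally trivial for the Zariski topology.
-/

set_option autoImplicit false
set_option linter.style.haveILetI false
set_option maxHeartbeats 800000

universe u

noncomputable section

open CategoryTheory Limits MonoidalCategory CartesianMonoidalCategory MonObj AlgebraicGeometry
open scoped TensorProduct

attribute [-instance] instCommGrpObjSpecAsOverSpec isCommMonObj_spec_asOver_spec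

namespace Groth.Agent.GLTorsorZar

open Groth.Agent.GmTorsorZar (tr tr_comp tr_one tr_mul)

variable {S₀ : Scheme.{u}} {n : ℕ} {X Y : Over S₀} (a : AlgGrp.Action (FrB.GLn n S₀) X) {φ : X ⟶ Y}
  (hcart : IsPullback a.act (snd (FrB.GLn n S₀) X) φ φ)

include hcart in
theorem existsUnique_tr_of_cart {T : Over S₀} (x y : T ⟶ X) (h : x ≫ φ = y ≫ φ) :
    ∃! g : T ⟶ FrB.GLn n S₀, tr a g x = y := by
  refine ⟨hcart.lift y x h.symm ≫ fst _ _, ?_, fun g hg => ?_⟩
  · show lift _ x ≫ a.act = y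
    have e : lift (hcart.lift y x h.symm ≫ fst _ _) x = hcart.lift y x h.symm :=
      CartesianMonoidalCategory.hom_ext _ _ (by rw [lift_fst]) (by rw [lift_snd, hcart.lift_snd])
    rw [e, hcart.lift_fst]
  · have e : lift g x = hcart.lift y x h.symm :=
      hcart.hom_ext (by rw [hcart.lift_fst]; exact hg) (by rw [lift_snd, hcart.lift_snd])
    rw [← e, lift_fst]

theorem isAffineHom_GLn : IsAffineHom (FrB.GLn n S₀).hom := by
  haveI : IsAffineHom (FrB.GLZ.{u} n).hom := by
    haveI : IsAffine (FrB.GLZ.{u} n).left := inferInstanceAs (IsAffine (Spec _))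
    exact isAffineHom_of_isAffine _
  show IsAffineHom (pullback.snd _ _)
  exact MorphismProperty.pullback_snd _ _ inferInstance

include hcart in
theorem prop_of_cart (P : MorphismProperty Scheme.{u}) [P.IsStableUnderBaseChange] [IsZariskiLocalAtTarget P]
    [P.DescendsAlong (@Surjective ⊓ @Flat ⊓ @QuasiCompact)] (hG : P (FrB.GLn n S₀).hom)
    {R : Presieve Y.left} (hR : R ∈ Scheme.fpqcPrecoverage Y.left)
    (hs : ∀ ⦃Y' : Scheme.{u}⦄ (f : Y' ⟶ Y.left), R f → ∃ s : Y' ⟶ X.left, s ≫ φ.left = f) : P φ.left := by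
  refine Groth.Agent.FpqcDescent.of_fpqcPrecoverage P φ.left hR fun Y' f hf => ?_
  obtain ⟨s, rfl⟩ := hs f hf
  have h1 : P (snd (FrB.GLn n S₀) X).left := P.pullback_snd _ _ hG
  have e := (IsPullback.of_hasPullback (snd (FrB.GLn n S₀) X).left s).paste_horiz (hcart.map (Over.forget S₀))
  have h2 : P (pullback.snd (snd (FrB.GLn n S₀) X).left s) := P.pullback_snd _ _ h1
  have h3 : pullback.snd φ.left (s ≫ φ.left) = e.isoPullback.inv ≫ pullback.snd (snd (FrB.GLn n S₀) X).left s :=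
    e.isoPullback_inv_snd.symm
  rw [h3]
  exact (P.cancel_left_of_respectsIso _ _).2 h2

include hcart in
theorem exists_local_section [IsAffineHom φ.left] [Flat φ.left] [Surjective φ.left] (s : Y.left) :
    ∃ (D : Scheme.{u}) (j : D ⟶ Y.left), IsOpenImmersion j ∧ s ∈ Set.range j ∧ ∃ x : D ⟶ X.left, x ≫ φ.left = j := by
  obtain ⟨_, ⟨V, hV, rfl⟩, hsV, -⟩ := Y.left.isBasis_affineOpens.exists_subset_of_mem_open (Set.mem_univ s) isOpen_univ
  let U := φ.left ⁻¹ᵁ V
  have hU : IsAffineOpen U := hV.preimage φ.left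
  let A := Γ(Y.left, V)
  let B := Γ(X.left, U)
  let φ₀ := φ.left.appLE V U le_rfl
  letI : Algebra A B := φ₀.hom.toAlgebra
  have hfl : φ₀.hom.Flat := φ.left.flat_appLE hV hU le_rfl
  haveI : Module.Flat A B := hfl
  have hτ : hU.fromSpec ≫ φ.left = Spec.map φ₀ ≫ hV.fromSpec :=
    (hV.SpecMap_appLE_fromSpec φ.left hU le_rfl).symm
  have hsurj : ∀ P : PrimeSpectrum A, ∃ Q : PrimeSpectrum B, PrimeSpectrum.comap (algebraMap A B) Q = P := fun P => by
    obtain ⟨y, hy⟩ := φ.left.surjective (hV.fromSpec P)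
    have hyU : y ∈ U := show φ.left y ∈ V by rw [hy]; exact hV.range_fromSpec.le ⟨P, rfl⟩
    refine ⟨hU.primeIdealOf ⟨y, hyU⟩, hV.fromSpec.isOpenEmbedding.injective ?_⟩
    show hV.fromSpec (Spec.map φ₀ (hU.primeIdealOf ⟨y, hyU⟩)) = _
    rw [← Scheme.Hom.comp_apply, ← hτ, Scheme.Hom.comp_apply, hU.fromSpec_primeIdealOf, hy]
  haveI : Module.FaithfullyFlat A B := Module.FaithfullyFlat.of_comap_surjective hsurj
  let T : ∀ (R : Type u) [CommRing R] [Algebra A R], Over S₀ :=
    fun R _ _ => Over.mk (Spec.map (CommRingCat.ofHom (algebraMap A R)) ≫ hV.fromSpec ≫ Y.hom)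
  have hpl : ∀ (R : Type u) [CommRing R] [Algebra A R] (χ : B →ₐ[A] R),
      (Spec.map (CommRingCat.ofHom χ.toRingHom) ≫ hU.fromSpec) ≫ φ.left =
        Spec.map (CommRingCat.ofHom (algebraMap A R)) ≫ hV.fromSpec := fun R _ _ χ => by
    rw [Category.assoc, hτ, ← Spec.map_comp_assoc]
    congr 2
    ext z
    exact χ.commutes z
  let pt : ∀ (R : Type u) [CommRing R] [Algebra A R], (B →ₐ[A] R) → (T R ⟶ X) := fun R _ _ χ =>
    Over.homMk (Spec.map (CommRingCat.ofHom χ.toRingHom) ≫ hU.fromSpec)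
      ((congrArg (_ ≫ ·) (Over.w φ).symm).trans ((Category.assoc _ _ _).symm.trans
        ((congrArg (· ≫ Y.hom) (hpl R χ)).trans (Category.assoc _ _ _))))
  have hpφ : ∀ (R : Type u) [CommRing R] [Algebra A R] (χ ψ : B →ₐ[A] R), pt R χ ≫ φ = pt R ψ ≫ φ :=
    fun R _ _ χ ψ => Over.OverMorphism.ext ((hpl R χ).trans (hpl R ψ).symm)
  let ε : ∀ (R : Type u) [CommRing R], Γ(Spec (CommRingCat.of R), ⊤) →+* R := fun R _ =>
    (Scheme.ΓSpecIso (CommRingCat.of R)).hom.hom
  let W : ∀ (R : Type u) [CommRing R] [Algebra A R] [Module.Flat A R], (B →ₐ[A] R) → (B →ₐ[A] R) →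
      Matrix (Fin n) (Fin n) R :=
    fun R _ _ _ χ ψ => (mat (W := T R)
      (existsUnique_tr_of_cart a hcart (pt R χ) (pt R ψ) (hpφ R χ ψ)).exists.choose).map (ε R)
  have hWspec : ∀ (R : Type u) [CommRing R] [Algebra A R] [Module.Flat A R] (χ ψ : B →ₐ[A] R)
      (g : T R ⟶ FrB.GLn n S₀), tr a g (pt R χ) = pt R ψ → W R χ ψ = (mat (W := T R) g).map (ε R) :=
    fun R _ _ _ χ ψ g hg => by
    show (mat (W := T R) _).map (ε R) = _
    rw [(existsUnique_tr_of_cart a hcart (pt R χ) (pt R ψ) (hpφ R χ ψ)).unique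
      (existsUnique_tr_of_cart a hcart (pt R χ) (pt R ψ) (hpφ R χ ψ)).exists.choose_spec hg]
  have hW : ∀ (R : Type u) [CommRing R] [Algebra A R] [Module.Flat A R] (χ ψ : B →ₐ[A] R),
      ∃ g : T R ⟶ FrB.GLn n S₀, tr a g (pt R χ) = pt R ψ ∧ W R χ ψ = (mat (W := T R) g).map (ε R) :=
    fun R _ _ _ χ ψ =>
    ⟨_, (existsUnique_tr_of_cart a hcart (pt R χ) (pt R ψ) (hpφ R χ ψ)).exists.choose_spec, rfl⟩
  have hεnat : ∀ (R R' : Type u) [CommRing R] [Algebra A R] [CommRing R'] [Algebra A R'] (f : R →ₐ[A] R')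
      (M : Matrix (Fin n) (Fin n) Γ(Spec (CommRingCat.of R), ⊤)),
      (M.map (Spec.map (CommRingCat.ofHom f.toRingHom)).appTop).map (ε R') = (M.map (ε R)).map f :=
    fun R R' _ _ _ _ f M => by
    ext i j
    exact RingHom.congr_fun (congrArg CommRingCat.Hom.hom
      (Scheme.ΓSpecIso_naturality (CommRingCat.ofHom f.toRingHom))) (M i j)
  have hnat : ∀ (R R' : Type u) [CommRing R] [Algebra A R] [Module.Flat A R] [CommRing R'] [Algebra A R']
      [Module.Flat A R'] (f : R →ₐ[A] R') (χ ψ : B →ₐ[A] R),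
      (W R χ ψ).map f = W R' (f.comp χ) (f.comp ψ) := fun R R' _ _ _ _ _ _ f χ ψ => by
    obtain ⟨g, hg, e⟩ := hW R χ ψ
    let p : T R' ⟶ T R := Over.homMk (Spec.map (CommRingCat.ofHom f.toRingHom)) (by
      show _ ≫ _ ≫ _ = _
      rw [← Spec.map_comp_assoc]
      congr 2
      ext z
      exact f.commutes z)
    have hp : ∀ χ : B →ₐ[A] R, p ≫ pt R χ = pt R' (f.comp χ) := fun χ => by
      ext1
      show Spec.map (CommRingCat.ofHom f.toRingHom) ≫ Spec.map (CommRingCat.ofHom χ.toRingHom) ≫ hU.fromSpec =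
        Spec.map (CommRingCat.ofHom (f.comp χ).toRingHom) ≫ hU.fromSpec
      rw [← Spec.map_comp_assoc]
      rfl
    have := congrArg (p ≫ ·) hg
    simp only [tr_comp, hp] at this
    rw [hWspec R' _ _ _ this, e, mat_comp]
    exact (hεnat R R' f (mat (W := T R) g)).symm
  have hone : ∀ (R : Type u) [CommRing R] [Algebra A R] [Module.Flat A R] (χ : B →ₐ[A] R), W R χ χ = 1 :=
    fun R _ _ _ χ => by
      rw [hWspec R χ χ 1 (tr_one a _), mat_one, Matrix.map_one _ (map_zero _) (map_one _)]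
  have hcoc : ∀ (R : Type u) [CommRing R] [Algebra A R] [Module.Flat A R] (χ ψ ω : B →ₐ[A] R),
      W R ψ ω * W R χ ψ = W R χ ω := fun R _ _ _ χ ψ ω => by
    obtain ⟨g, hg, e⟩ := hW R χ ψ
    obtain ⟨g', hg', e'⟩ := hW R ψ ω
    rw [hWspec R χ ω (g' * g) (by rw [tr_mul, hg, hg']), mat_mul, Matrix.map_mul, e, e']
  obtain ⟨P, hP⟩ : ∃ P : PrimeSpectrum A, hV.fromSpec P = s := hV.range_fromSpec.ge hsV
  obtain ⟨f, hfP, m, d, hmd, hm⟩ := exists_coboundary W hnat hone hcoc P
  let Af := Localization.Away f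
  let Bf := Localization.Away (algebraMap A B f)
  haveI : Module.Flat A Bf := Module.Flat.trans A B Bf
  have hu : IsUnit (algebraMap A Bf f) := by
    rw [IsScalarTower.algebraMap_apply A B Bf]
    exact IsLocalization.Away.algebraMap_isUnit _
  let j' := Spec.map (CommRingCat.ofHom (algebraMap A Af))
  haveI : IsOpenImmersion j' := IsOpenImmersion.of_isLocalization f
  refine ⟨_, j' ≫ hV.fromSpec, inferInstance, ?_, ?_⟩
  · obtain ⟨w, hw⟩ := (PrimeSpectrum.localization_away_comap_range Af f).ge (show P ∈ PrimeSpectrum.basicOpen f from hfP)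
    exact ⟨w, by rw [Scheme.Hom.comp_apply]; exact (congrArg hV.fromSpec hw).trans hP⟩
  let κ : Af →+* Bf := IsLocalization.Away.lift f hu
  let q := Spec.map (CommRingCat.ofHom κ)
  have hq : q ≫ j' = Spec.map (CommRingCat.ofHom (algebraMap A Bf)) := by
    rw [← Spec.map_comp, ← CommRingCat.ofHom_comp, IsLocalization.Away.lift_comp]
  haveI : Flat q := by
    haveI : Flat (q ≫ j') := by
      rw [hq]
      exact Flat.SpecMap_iff.2 (RingHom.flat_algebraMap_iff.2 inferInstance)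
    have sq : IsPullback q (𝟙 _) j' (q ≫ j') := IsPullback.of_isLimit' ⟨by simp⟩
      (PullbackCone.IsLimit.mk _ (fun t => t.snd)
        (fun t => (cancel_mono j').1 (by rw [Category.assoc]; exact t.condition.symm)) (fun t => by simp)
        (fun t l _ h₂ => by simpa using h₂))
    exact MorphismProperty.of_isPullback sq.flip inferInstance
  haveI : Surjective q := ⟨fun w => by
    obtain ⟨Q, hQ⟩ := hsurj (j' w)
    have hQf : algebraMap A B f ∉ Q.asIdeal := fun hmem =>
      (PrimeSpectrum.localization_away_comap_range Af f).le ⟨w, rfl⟩ (by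
        have : f ∈ (PrimeSpectrum.comap (algebraMap A B) Q).asIdeal := hmem
        rw [hQ] at this
        exact this)
    obtain ⟨z, hz⟩ := (PrimeSpectrum.localization_away_comap_range Bf (algebraMap A B f)).ge
      (show Q ∈ PrimeSpectrum.basicOpen (algebraMap A B f) from hQf)
    refine ⟨z, j'.isOpenEmbedding.injective ?_⟩
    rw [← Scheme.Hom.comp_apply, hq, ← hQ, ← hz]
    exact congrArg (fun r => PrimeSpectrum.comap r z) (IsScalarTower.algebraMap_eq A B Bf)⟩
  haveI : EffectiveEpi q := inferInstance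
  let β : B →ₐ[A] Bf := IsScalarTower.toAlgHom A B Bf
  have hmu : IsUnit (m.map β).det := by
    have e : (m.map β).det = β m.det := (AlgHom.map_det β m).symm
    rw [e]
    refine isUnit_of_mul_isUnit_left (y := β d) ?_
    rw [← map_mul, hmd, AlgHom.commutes]
    exact hu
  let M : Matrix (Fin n) (Fin n) Bf := (m.map β)⁻¹
  have hMι : IsUnit (M.map (Scheme.ΓSpecIso (CommRingCat.of Bf)).inv.hom).det := by
    rw [← RingHom.mapMatrix_apply, ← RingHom.map_det]
    exact ((Matrix.isUnit_nonsing_inv_det_iff).2 hmu).map _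
  obtain ⟨g₀, hg₀⟩ := exists_mat (S := S₀) (W := T Bf) _ hMι
  have hg₀' : (mat (W := T Bf) g₀).map (ε Bf) = M := by
    rw [hg₀]
    ext i j
    exact RingHom.congr_fun (congrArg CommRingCat.Hom.hom (Scheme.ΓSpecIso (CommRingCat.of Bf)).inv_hom_id) (M i j)
  let x₀ := tr a g₀ (pt Bf β)
  let R2 := Bf ⊗[A] Bf
  let l : Bf →ₐ[A] R2 := Algebra.TensorProduct.includeLeft
  let r : Bf →ₐ[A] R2 := Algebra.TensorProduct.includeRight
  let L : T R2 ⟶ T Bf := Over.homMk (Spec.map (CommRingCat.ofHom l.toRingHom)) (by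
    show _ ≫ _ ≫ _ = _
    rw [← Spec.map_comp_assoc]
    congr 2)
  let Rr : T R2 ⟶ T Bf := Over.homMk (Spec.map (CommRingCat.ofHom r.toRingHom)) (by
    show _ ≫ _ ≫ _ = _
    rw [← Spec.map_comp_assoc]
    congr 2
    ext z
    exact r.commutes z)
  have hkey : L ≫ x₀ = Rr ≫ x₀ := by
    have hpt : ∀ (ω : Bf →ₐ[A] R2) (p : T R2 ⟶ T Bf), p.left = Spec.map (CommRingCat.ofHom ω.toRingHom) →
        p ≫ pt Bf β = pt R2 (ω.comp β) ∧
          (mat (W := T R2) (p ≫ g₀)).map (ε R2) * m.map (ω.comp β) = 1 := fun ω p hp => by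
      refine ⟨?_, ?_⟩
      · ext1
        show p.left ≫ _ ≫ _ = _
        rw [hp, ← Spec.map_comp_assoc]
        rfl
      · rw [mat_comp, hp, AlgHom.coe_comp, ← Matrix.map_map]
        refine (congrArg (· * (m.map β).map ω) ((hεnat Bf R2 ω (mat (W := T Bf) g₀)).trans
          (congrArg (fun N : Matrix (Fin n) (Fin n) Bf => N.map ω) hg₀'))).trans ?_
        rw [← Matrix.map_mul, Matrix.nonsing_inv_mul _ hmu, Matrix.map_one _ (map_zero _) (map_one _)]
    obtain ⟨hl₁, hl₂⟩ := hpt l L rfl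
    obtain ⟨hr₁, hr₂⟩ := hpt r Rr rfl
    obtain ⟨g, hg, e⟩ := hW R2 (l.comp β) (r.comp β)
    rw [tr_comp, tr_comp, hl₁, hr₁, ← hg, ← tr_mul]
    congr 1
    refine mat_ext (Matrix.map_injective
      (Scheme.ΓSpecIso (CommRingCat.of R2)).commRingCatIsoToRingEquiv.injective ?_)
    show (mat (W := T R2) (L ≫ g₀)).map (ε R2) = (mat (W := T R2) (Rr ≫ g₀ * g)).map (ε R2)
    rw [mat_mul, Matrix.map_mul, ← e]
    have hm' := congrArg (fun N : Matrix (Fin n) (Fin n) (B ⊗[A] B) => N.map (Algebra.TensorProduct.map β β)) hm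
    simp only [Matrix.map_mul, hnat, Matrix.map_map, ← AlgHom.coe_comp,
      Algebra.TensorProduct.map_comp_includeLeft, Algebra.TensorProduct.map_comp_includeRight] at hm'
    have hm'' : W R2 (l.comp β) (r.comp β) * m.map (l.comp β) = m.map (r.comp β) := hm'
    refine (left_inv_eq_right_inv (a := m.map (l.comp β)) ?_ (mul_eq_one_comm.1 hl₂)).symm
    rw [Matrix.mul_assoc, hm'', hr₂]
  have hkey' : Spec.map (CommRingCat.ofHom (Algebra.TensorProduct.includeLeftRingHom : Bf →+* R2)) ≫ x₀.left =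
      Spec.map (CommRingCat.ofHom (Algebra.TensorProduct.includeRight : Bf →ₐ[A] R2).toRingHom) ≫ x₀.left :=
    congrArg CommaMorphism.left hkey
  have hdesc : ∀ {Z : Scheme.{u}} (y z : Z ⟶ Spec (CommRingCat.of Bf)), y ≫ q = z ≫ q → y ≫ x₀.left = z ≫ x₀.left := by
    intro Z y z e
    have e' : y ≫ Spec.map (CommRingCat.ofHom (algebraMap A Bf)) = z ≫ Spec.map (CommRingCat.ofHom (algebraMap A Bf)) := by
      rw [← hq, reassoc_of% e]
    have h1 : (pullback.lift y z e' ≫ (pullbackSpecIso A Bf Bf).hom) ≫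
        Spec.map (CommRingCat.ofHom (Algebra.TensorProduct.includeLeftRingHom : Bf →+* R2)) = y := by
      rw [Category.assoc, pullbackSpecIso_hom_fst, pullback.lift_fst]
    have h2 : (pullback.lift y z e' ≫ (pullbackSpecIso A Bf Bf).hom) ≫
        Spec.map (CommRingCat.ofHom (Algebra.TensorProduct.includeRight : Bf →ₐ[A] R2).toRingHom) = z := by
      rw [Category.assoc]
      erw [pullbackSpecIso_hom_snd]
      exact pullback.lift_snd _ _ _
    exact (congrArg (· ≫ x₀.left) h1).symm.trans ((Category.assoc _ _ _).trans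
      ((congrArg _ hkey').trans ((Category.assoc _ _ _).symm.trans (congrArg (· ≫ x₀.left) h2))))
  have hx₀ : x₀.left ≫ φ.left = Spec.map (CommRingCat.ofHom (algebraMap A Bf)) ≫ hV.fromSpec := by
    have h0 : x₀ ≫ φ = pt Bf β ≫ φ := by
      show (lift g₀ (pt Bf β) ≫ a.act) ≫ φ = _
      rw [Category.assoc, hcart.w, ← Category.assoc, lift_snd]
    exact (congrArg CommaMorphism.left h0).trans (hpl Bf β)
  refine ⟨EffectiveEpi.desc q x₀.left hdesc, (cancel_epi q).1 ?_⟩
  rw [← Category.assoc, EffectiveEpi.fac, ← Category.assoc, hq]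
  exact hx₀

include hcart in
theorem isLocallyTrivial_zariski (hloc : NonAbH1.IsLocallyTrivialFor Scheme.fpqcPrecoverage (Over.mk φ.left : Over Y.left)) :
    NonAbH1.IsLocallyTrivialFor Scheme.zariskiPrecoverage (Over.mk φ.left : Over Y.left) := by
  obtain ⟨R, hR, hs⟩ := hloc
  haveI := isAffineHom_GLn (S₀ := S₀) (n := n)
  haveI : IsAffineHom φ.left :=
    prop_of_cart a hcart (@IsAffineHom : MorphismProperty Scheme.{u}) inferInstance hR fun _ f hf => hs f hf
  haveI : Flat φ.left :=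
    prop_of_cart a hcart (@Flat : MorphismProperty Scheme.{u}) inferInstance hR fun _ f hf => hs f hf
  haveI : Surjective φ.left := ⟨fun s => by
    obtain ⟨_, g, hg, ⟨y, rfl⟩⟩ := (Presieve.mem_comap_jointlySurjectivePrecoverage_iff Scheme.forget).1
      hR.2.1 s
    obtain ⟨t, rfl⟩ := hs g hg
    exact ⟨t y, (Scheme.Hom.comp_apply _ _ _).symm⟩⟩
  choose D j hj hjs x hx using exists_local_section a hcart
  refine ⟨Presieve.ofArrows D j, ⟨?_, ?_⟩, ?_⟩
  · exact (Presieve.mem_comap_jointlySurjectivePrecoverage_iff Scheme.forget).2 fun s => ⟨_, _, ⟨s⟩, hjs s⟩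
  · rintro _ _ ⟨i⟩
    exact hj i
  · rintro _ _ ⟨i⟩
    exact ⟨x i, hx i⟩

end Groth.Agent.GLTorsorZar
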